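/-
helper87, project GOUT (helper76, S3066), module GOUT-[GL-TWOQ]: a finite group whose odd-order elements lie in a
normalized subgroup `K` is a `2`-group modulo `K`, hence solvable modulo `K`.
-/
import Mathlib
import Cfsg.Prelude.Def_KGroupFacts
import Cfsg.Prelude.Def_Transfer
import Cfsg.Agent.Lib.Helper76.GOut.GlueDefs

set_option autoImplicit false

namespace Cfsg.Agent.Lib.Helper76.GOut

open Cfsg

theorem solvMod_of_odd_mem {A : Type*} [Group A] [Finite A] (X K : Subgroup A)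
    (hK : ∀ x ∈ X, ∀ k ∈ K, x * k * x⁻¹ ∈ K) (h : ∀ x ∈ X, Odd (orderOf x) → x ∈ K) :
    SolvMod X K := by
  classical
  have hN : (K.subgroupOf X).Normal := by
    refine ⟨fun n hn g => ?_⟩
    rw [Subgroup.mem_subgroupOf] at hn ⊢
    exact hK g g.2 n hn
  have : Fact (Nat.Prime 2) := ⟨Nat.prime_two⟩
  have hp : IsPGroup 2 (↥X ⧸ K.subgroupOf X) := by
    intro y
    obtain ⟨x, rfl⟩ := QuotientGroup.mk_surjective y
    obtain ⟨a, m, hm, hx⟩ := Nat.exists_eq_two_pow_mul_odd (orderOf_pos x).ne'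
    refine ⟨a, ?_⟩
    rw [← QuotientGroup.mk_pow, QuotientGroup.eq_one_iff, Subgroup.mem_subgroupOf]
    apply h _ (X.pow_mem x.2 _)
    have h1 : orderOf ((x : A) ^ 2 ^ a) = m := by
      have hxA : orderOf (x : A) = 2 ^ a * m := by rw [Subgroup.orderOf_coe, hx]
      rw [orderOf_pow' _ (pow_ne_zero a two_ne_zero), hxA,
        Nat.gcd_eq_right (Dvd.intro _ rfl), Nat.mul_div_cancel_left _ (pow_pos two_pos a)]
    rw [h1]
    exact hm
  have : Group.IsNilpotent (↥X ⧸ K.subgroupOf X) := hp.isNilpotent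
  have hs : Group.IsSolvable (↥X ⧸ K.subgroupOf X) := inferInstance
  obtain ⟨k, hk⟩ := (Group.isSolvable_def _).mp hs
  refine ⟨k, ?_⟩
  have h1 := map_derivedSeries_le_derivedSeries (QuotientGroup.mk' (K.subgroupOf X)) k
  rw [hk, le_bot_iff, Subgroup.map_eq_bot_iff, QuotientGroup.ker_mk'] at h1
  rintro _ ⟨x, hx, rfl⟩
  exact Subgroup.mem_subgroupOf.mp (h1 hx)

end Cfsg.Agent.Lib.Helper76.GOut
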