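/-
helper87, project GOUT (helper76, S3066), module GOUT-[GL-FRAT]: the Frattini argument inside `MulAut G`
(`MulAut G = Inn G · N_{Aut G}(S)` for a Sylow subgroup `S`) and the reduction of the solvability of `Out G`.
-/
import Mathlib
import Cfsg.Prelude.Def_KGroupFacts
import Cfsg.Prelude.Def_Transfer
import Cfsg.Agent.Lib.Helper76.GOut.GlueDefs

set_option autoImplicit false
set_option linter.unusedSectionVars false

namespace Cfsg.Agent.Lib.Helper76.GOut

open Cfsg
open scoped Pointwise

variable {G : Type*} [Group G] [Finite G]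

theorem inn_sup_stabAut (p : ℕ) [Fact p.Prime] (S : Sylow p G) :
    Inn G ⊔ stabAut (S : Subgroup G) = ⊤ := by
  rw [eq_top_iff]
  intro φ _
  obtain ⟨g, hg⟩ := MulAction.exists_smul_eq G (φ • S) S
  -- `conj g * φ` stabilizes `S`
  have h1 : (MulAut.conj g * φ) • S = S := by
    rw [mul_smul, ← Sylow.smul_def]
    exact hg
  have h2 : MulAut.conj g * φ ∈ stabAut (S : Subgroup G) := by
    intro h
    have h3 : (MulAut.conj g * φ) • (S : Subgroup G) = (S : Subgroup G) := by
      have := congrArg (fun P : Sylow p G => (P : Subgroup G)) h1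
      simp only [Sylow.pointwise_smul_def] at this
      exact this
    have h4 : (MulAut.conj g * φ) • h ∈ (MulAut.conj g * φ) • (S : Subgroup G) ↔ h ∈ (S : Subgroup G) :=
      Subgroup.smul_mem_pointwise_smul_iff
    rw [h3] at h4
    exact h4
  have h5 : φ = (MulAut.conj g)⁻¹ * (MulAut.conj g * φ) := by group
  rw [h5]
  exact Subgroup.mul_mem_sup ((Inn G).inv_mem ⟨g, rfl⟩) h2

theorem out_isSolvable_of_solvMod (p : ℕ) [Fact p.Prime] (S : Sylow p G)
    (h : SolvMod (stabAut (S : Subgroup G)) (Inn G)) : Group.IsSolvable (Out G) := by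
  obtain ⟨k, hk⟩ := h
  let f : ↥(stabAut (S : Subgroup G)) →* Out G :=
    (QuotientGroup.mk' (Inn G)).comp (stabAut (S : Subgroup G)).subtype
  have hf : Function.Surjective f := by
    intro q
    obtain ⟨φ, rfl⟩ := QuotientGroup.mk_surjective q
    have hφ : φ ∈ Inn G ⊔ stabAut (S : Subgroup G) := by
      rw [inn_sup_stabAut p S]
      exact Subgroup.mem_top _
    rw [Subgroup.mem_sup_of_normal_left] at hφ
    obtain ⟨a, ha, x, hx, rfl⟩ := hφ
    refine ⟨⟨x, hx⟩, ?_⟩
    show (QuotientGroup.mk x : Out G) = QuotientGroup.mk (a * x)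
    rw [QuotientGroup.mk_mul, (QuotientGroup.eq_one_iff a).mpr ha, one_mul]
  rw [Group.isSolvable_def]
  refine ⟨k, ?_⟩
  rw [← map_derivedSeries_eq hf k, eq_bot_iff]
  rintro _ ⟨x, hx, rfl⟩
  rw [Subgroup.mem_bot]
  show (QuotientGroup.mk (x : MulAut G) : Out G) = 1
  rw [QuotientGroup.eq_one_iff]
  exact hk ⟨x, hx, rfl⟩

end Cfsg.Agent.Lib.Helper76.GOut
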