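/-
helper87, project GOUT (helper76, S3066), module GOUT-[GL-LINEQ]: the automorphisms of an elementary abelian `2`-group
are the `𝔽₂`-linear automorphisms of its additive version.
-/
import Mathlib
import Cfsg.Prelude.Def_KGroupFacts
import Cfsg.Prelude.Def_Transfer
import Cfsg.Agent.Lib.Helper76.GOut.GlueDefs

set_option autoImplicit false

namespace Cfsg.Agent.Lib.Helper76.GOut

open Cfsg

theorem exists_mulAut_linearEquiv (E : Type*) [CommGroup E] (h2 : ∀ x : E, x ^ 2 = 1) :
    ∃ (_ : Module (ZMod 2) (Additive E))
      (e : MulAut E ≃* (Additive E ≃ₗ[ZMod 2] Additive E)),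
      ∀ (φ : MulAut E) (x : E), e φ (Additive.ofMul x) = Additive.ofMul (φ x) := by
  letI inst : Module (ZMod 2) (Additive E) := AddCommGroup.zmodModule (n := 2) (fun x => by
    have := (ofMul_pow 2 (Additive.toMul x)).symm
    rw [h2, ofMul_one] at this
    exact this)
  let e : MulAut E ≃* (Additive E ≃ₗ[ZMod 2] Additive E) :=
    { toFun := fun φ =>
        { (MulEquiv.toAdditive φ) with
          map_smul' := fun c x => ZMod.map_smul (MulEquiv.toAdditive φ).toAddMonoidHom c x }
      invFun := fun L => MulEquiv.toAdditive.symm L.toAddEquiv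
      left_inv := fun φ => by
        ext x
        rfl
      right_inv := fun L => by
        ext x
        rfl
      map_mul' := fun φ ψ => by
        ext x
        rfl }
  exact ⟨inst, e, fun φ x => rfl⟩

end Cfsg.Agent.Lib.Helper76.GOut
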