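/-
helper87, project GOUT (helper76, S3066), hedge of GOUT-[PL-TOP] in `_of` form: `PL_main` from the statements of
[PL-PERF] `exists_perfect_of_not_solvable` and [PL-CORE] `PL_core`, taken as hypotheses.
-/
import Mathlib
import Cfsg.Agent.Lib.Helper76.GOut.PLDefs

set_option autoImplicit false

namespace Cfsg.Agent.Lib.Helper87.GOutPLTop

open Cfsg.Agent.Lib.Helper76.GOut

universe u

variable {T : Type u} [Group T]

/-- restriction of a group of automorphisms to an invariant subgroup -/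
def restrictAut (R : Subgroup (MulAut T)) (Q₀ : Subgroup T)
    (hinv : ∀ r ∈ R, ∀ x ∈ Q₀, r x ∈ Q₀) : R →* MulAut Q₀ where
  toFun r :=
    { toFun := fun x => ⟨(r : MulAut T) x, hinv r r.2 x x.2⟩
      invFun := fun x => ⟨((r⁻¹ : R) : MulAut T) x, hinv _ (r⁻¹).2 x x.2⟩
      left_inv := fun x => by
        apply Subtype.ext
        show ((r⁻¹ : R) : MulAut T) ((r : MulAut T) x) = x
        rw [← MulAut.mul_apply, ← Subgroup.coe_mul, inv_mul_cancel]
        rfl
      right_inv := fun x => by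
        apply Subtype.ext
        show (r : MulAut T) (((r⁻¹ : R) : MulAut T) x) = x
        rw [← MulAut.mul_apply, ← Subgroup.coe_mul, mul_inv_cancel]
        rfl
      map_mul' := fun x y => by
        apply Subtype.ext
        show (r : MulAut T) ((x : T) * (y : T)) = _
        rw [map_mul]
        rfl }
  map_one' := by
    ext x
    rfl
  map_mul' r s := by
    ext x
    rfl

theorem restrictAut_apply (R : Subgroup (MulAut T)) (Q₀ : Subgroup T)
    (hinv : ∀ r ∈ R, ∀ x ∈ Q₀, r x ∈ Q₀) (r : R) (x : Q₀) :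
    ((restrictAut R Q₀ hinv r x : Q₀) : T) = (r : MulAut T) x := rfl

/-- **GOUT-[PL-TOP]** in `_of` form. -/
theorem PL_main_of [Finite T]
    (hperf : ∀ {Γ : Type u} [Group Γ] [Finite Γ], ¬ IsSolvable Γ →
      ∃ R : Subgroup Γ, R ≠ ⊥ ∧ commutator R = ⊤)
    (hcore : ∀ {Q : Type u} {R : Type u} [Group Q] [Finite Q] [Group R] {α : R →* MulAut Q} [Finite R],
      IsPGroup 2 Q → PLHyp α → False)
    (hT : IsPGroup 2 T)
    (hc : ∀ x : T, x ^ 2 = 1 → x ∈ Subgroup.center T) : IsSolvable (cOmega T) := by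
  classical
  by_contra hns
  obtain ⟨R₀, hR₀, hR₀p⟩ := hperf hns
  -- `R₀` as a subgroup of `MulAut T`
  obtain ⟨R, hR⟩ : ∃ R : Subgroup (MulAut T), R = R₀.map (cOmega T).subtype := ⟨_, rfl⟩
  have hRle : R ≤ cOmega T := by
    rw [hR]
    rintro _ ⟨x, -, rfl⟩
    exact x.2
  have hRne : R ≠ ⊥ := by
    rw [hR]
    intro h
    apply hR₀
    rw [Subgroup.map_eq_bot_iff_of_injective _ (Subgroup.subtype_injective _)] at h
    exact h
  -- `R` is perfect
  have e : R₀ ≃* R := by
    rw [hR]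
    exact R₀.equivMapOfInjective _ (Subgroup.subtype_injective _)
  have hRp : commutator R = ⊤ := by
    have h1 : (commutator R₀).map e.toMonoidHom = commutator R := by
      rw [commutator_def, commutator_def, Subgroup.map_commutator, ← MonoidHom.range_eq_map,
        MonoidHom.range_eq_top.mpr e.surjective]
    rw [← h1, hR₀p, ← MonoidHom.range_eq_map, MonoidHom.range_eq_top.mpr e.surjective]
  -- minimal invariant subgroup not fixed pointwise
  let P : Subgroup T → Prop := fun Q₀ => (∀ r ∈ R, ∀ x ∈ Q₀, r x ∈ Q₀) ∧ ∃ r ∈ R, ∃ x ∈ Q₀, r x ≠ x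
  have hPtop : P ⊤ := by
    refine ⟨fun _ _ _ _ => Subgroup.mem_top _, ?_⟩
    obtain ⟨⟨r, hr⟩, hr1⟩ := (Subgroup.ne_bot_iff_exists_ne_one).mp hRne
    by_contra hall
    apply hr1
    apply Subtype.ext
    show r = 1
    ext x
    by_contra hx
    exact hall ⟨r, hr, x, Subgroup.mem_top _, hx⟩
  obtain ⟨Q₀, ⟨hQinv, hQnt⟩, hQmin⟩ := exists_minimal_of_wellFoundedLT P ⟨⊤, hPtop⟩
  have hfin : Finite R := inferInstance
  refine hcore (α := restrictAut R Q₀ hQinv) (hT.to_subgroup Q₀) ⟨hRp, ?_, ?_, ?_⟩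
  · -- min
    intro M hM hMinv r u hu
    by_contra hne
    have hP' : P (M.map Q₀.subtype) := by
      refine ⟨?_, ?_⟩
      · rintro s hs _ ⟨y, hy, rfl⟩
        exact ⟨restrictAut R Q₀ hQinv ⟨s, hs⟩ y, hMinv ⟨s, hs⟩ y hy, rfl⟩
      · refine ⟨r, r.2, (u : T), ⟨u, hu, rfl⟩, ?_⟩
        intro h
        apply hne
        apply Subtype.ext
        exact h
    have hle : M.map Q₀.subtype ≤ Q₀ := by
      rintro _ ⟨y, -, rfl⟩
      exact y.2
    have := hQmin hP' hle
    apply hM
    rw [eq_top_iff]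
    intro y _
    obtain ⟨z, hz, hzy⟩ := this y.2
    have : z = y := Subtype.ext hzy
    rwa [← this]
  · -- inv
    intro u hu
    have hu' : (u : T) ^ 2 = 1 := by
      have := congrArg Subtype.val hu
      simpa using this
    refine ⟨?_, ?_⟩
    · rw [Subgroup.mem_center_iff]
      intro g
      apply Subtype.ext
      exact (Subgroup.mem_center_iff.mp (hc _ hu')) g
    · intro r
      apply Subtype.ext
      exact hRle r.2 _ hu'
  · -- nontriv
    obtain ⟨r, hr, x, hx, hne⟩ := hQnt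
    refine ⟨⟨r, hr⟩, ⟨x, hx⟩, ?_⟩
    intro h
    exact hne (congrArg Subtype.val h)

end Cfsg.Agent.Lib.Helper87.GOutPLTop
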